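import Mathlib

set_option autoImplicit false

/-! Lower central series: `⁅γ_i, γ_j⁆ ≤ γ_{i+j}`; fixed-point-free automorphisms of prime order (helper30). -/

namespace Cfsg.Agent.Lib.Helper30.LCS

variable {G : Type*} [Group G]

/-- three subgroups lemma modulo a normal subgroup. -/
theorem three_le (N : Subgroup G) [N.Normal] {H₁ H₂ H₃ : Subgroup G} (h1 : ⁅⁅H₂, H₃⁆, H₁⁆ ≤ N)
    (h2 : ⁅⁅H₃, H₁⁆, H₂⁆ ≤ N) : ⁅⁅H₁, H₂⁆, H₃⁆ ≤ N := by
  have key : ∀ A B C : Subgroup G, ⁅⁅A, B⁆, C⁆ ≤ N ↔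
      ⁅⁅A.map (QuotientGroup.mk' N), B.map (QuotientGroup.mk' N)⁆, C.map (QuotientGroup.mk' N)⁆ = ⊥ := by
    intro A B C
    rw [← Subgroup.map_commutator, ← Subgroup.map_commutator, Subgroup.map_eq_bot_iff,
      QuotientGroup.ker_mk']
  rw [key] at h1 h2 ⊢
  exact Subgroup.commutator_commutator_eq_bot_of_rotate h1 h2

/-- abbreviation for the lower central series of `G` (index as in Mathlib: `Γ 0 = ⊤`). -/
abbrev Γ (G : Type*) [Group G] (n : ℕ) : Subgroup G := (⊤ : Subgroup G).lowerCentralSeries n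

instance Γ_normal (n : ℕ) : (Γ G n).Normal := by
  have : (Γ G n).Characteristic := inferInstance
  infer_instance

theorem lcs_comm_le (i j : ℕ) : ⁅Γ G i, Γ G j⁆ ≤ Γ G (i + j + 1) := by
  induction j generalizing i with
  | zero => exact le_of_eq rfl
  | succ j ih =>
    have e : ⁅Γ G i, Γ G (j + 1)⁆ = ⁅⁅Γ G j, (⊤ : Subgroup G)⁆, Γ G i⁆ := by
      rw [Subgroup.commutator_comm]; rfl
    rw [e]
    apply three_le
    · have e2 : ⁅(⊤ : Subgroup G), Γ G i⁆ = Γ G (i + 1) := by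
        rw [Subgroup.commutator_comm]; rfl
      rw [e2]
      have := ih (i + 1)
      have e3 : i + 1 + j + 1 = i + (j + 1) + 1 := by omega
      rwa [e3] at this
    · exact Subgroup.commutator_mono (ih i) le_rfl

/-! ### fixed-point-free automorphisms -/

theorem fpf_surj [Finite G] (α : MulAut G) (hfpf : ∀ g : G, α g = g → g = 1) (g : G) :
    ∃ x : G, g = x⁻¹ * α x := by
  have hinj : Function.Injective (fun x : G => x⁻¹ * α x) := by
    intro x y hxy
    have h1 : x⁻¹ * α x = y⁻¹ * α y := hxy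
    have h2 : α (x * y⁻¹) = x * y⁻¹ := by
      rw [map_mul, map_inv]
      have h3 : α x = x * (y⁻¹ * α y) := by rw [← h1, mul_inv_cancel_left]
      rw [h3]; group
    have h4 := hfpf _ h2
    exact mul_inv_eq_one.1 h4
  obtain ⟨x, hx⟩ := (Finite.injective_iff_surjective.1 hinj) g
  exact ⟨x, hx.symm⟩

theorem prod_range_eq (α : MulAut G) (x : G) (n : ℕ) :
    ((List.range n).map (fun j => (α ^ j) (x⁻¹ * α x))).prod = x⁻¹ * (α ^ n) x := by
  induction n with
  | zero => simp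
  | succ n ih =>
    rw [List.range_succ, List.map_append, List.prod_append, ih]
    simp only [List.map_cons, List.map_nil, List.prod_cons, List.prod_nil, mul_one, map_mul, map_inv]
    have : (α ^ n) (α x) = (α ^ (n + 1)) x := by rw [pow_succ]; rfl
    rw [this]; group

/-- `g · α(g) ⋯ α^{p-1}(g) = 1`. -/
theorem fpf_prod [Finite G] (α : MulAut G) (hfpf : ∀ g : G, α g = g → g = 1) {p : ℕ} (hα : α ^ p = 1)
    (g : G) : ((List.range p).map (fun j => (α ^ j) g)).prod = 1 := by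
  obtain ⟨x, rfl⟩ := fpf_surj α hfpf g
  rw [prod_range_eq, hα]
  simp

/-- the order of `G` is prime to `p`. -/
theorem fpf_coprime [Finite G] (α : MulAut G) (hfpf : ∀ g : G, α g = g → g = 1) {p : ℕ} (hp : p.Prime)
    (hα : orderOf α = p) : ¬ p ∣ Nat.card G := by
  haveI : Fact p.Prime := ⟨hp⟩
  have hP : IsPGroup p (Subgroup.zpowers α) := IsPGroup.of_card (n := 1) (by rw [Nat.card_zpowers, hα, pow_one])
  have h1 := hP.card_modEq_card_fixedPoints G
  have h2 : Nat.card (MulAction.fixedPoints (Subgroup.zpowers α) G) = 1 := by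
    rw [Nat.card_eq_one_iff_unique]
    refine ⟨⟨?_⟩, ⟨⟨1, fun a => map_one a.1⟩⟩⟩
    intro a b
    have ha : (a : G) = 1 := hfpf _ (a.2 ⟨α, Subgroup.mem_zpowers α⟩)
    have hb : (b : G) = 1 := hfpf _ (b.2 ⟨α, Subgroup.mem_zpowers α⟩)
    exact Subtype.ext (ha.trans hb.symm)
  rw [h2] at h1
  intro hd
  have h3 : Nat.card G ≡ 0 [MOD p] := (Nat.modEq_zero_iff_dvd).2 hd
  have h4 : (0 : ℕ) ≡ 1 [MOD p] := h3.symm.trans h1
  have h5 := (Nat.modEq_zero_iff_dvd.1 h4.symm)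
  exact hp.one_lt.ne' (Nat.dvd_one.1 h5)

end Cfsg.Agent.Lib.Helper30.LCS
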