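import Mathlib

/-!
# Maximality of set stabilisers in multiply transitive groups

If `G` is `(k+2)`-transitive on a finite set `Ω` with `2 k < |Ω|`, the setwise stabiliser of a
`k`-subset (`k ≥ 1`) is a maximal subgroup of `G`.
-/

set_option autoImplicit false

namespace Cfsg.Agent.Lib.Helper30

open scoped Pointwise
open MulAction

variable {G Ω : Type*} [Group G] [MulAction G Ω] [DecidableEq Ω]

/-- Convenient form of multiple transitivity: every injective map defined on a set of at most `t`
points is induced by a group element. -/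
def ExtendsInj (G : Type*) {Ω : Type*} [Group G] [MulAction G Ω] (t : ℕ) : Prop :=
  ∀ (A : Finset Ω) (f : Ω → Ω), A.card ≤ t → Set.InjOn f A → ∃ g : G, ∀ x ∈ A, g • x = f x

omit [DecidableEq Ω] in
theorem extendsInj_of_isMultiplyPretransitive [Finite Ω] (t : ℕ) (ht : t ≤ Nat.card Ω)
    [h : IsMultiplyPretransitive G Ω t] : ExtendsInj G (Ω := Ω) t := by
  intro A f hA hf
  have hm : IsMultiplyPretransitive G Ω A.card := isMultiplyPretransitive_of_le hA ht
  let e : Fin A.card ≃ A := (Finset.equivFin A).symm
  let x : Fin A.card ↪ Ω := ⟨fun i => (e i : Ω), fun i j hij => e.injective (Subtype.ext hij)⟩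
  let y : Fin A.card ↪ Ω := ⟨fun i => f (e i : Ω), fun i j hij =>
    e.injective (Subtype.ext (hf (e i).2 (e j).2 hij))⟩
  obtain ⟨g, hg⟩ := (isMultiplyPretransitive_iff (G := G) (α := Ω)).mp hm x y
  refine ⟨g, fun a ha => ?_⟩
  have h1 := DFunLike.congr_fun hg (e.symm ⟨a, ha⟩)
  rw [Function.Embedding.smul_apply] at h1
  have hx : x (e.symm ⟨a, ha⟩) = a := by
    change ((e (e.symm ⟨a, ha⟩) : A) : Ω) = a
    rw [Equiv.apply_symm_apply]
  have hy : y (e.symm ⟨a, ha⟩) = f a := by
    change f ((e (e.symm ⟨a, ha⟩) : A) : Ω) = f a
    rw [Equiv.apply_symm_apply]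
  rw [hx, hy] at h1
  exact h1

theorem smul_finset_eq_of_forall_mem (g : G) (s : Finset Ω) (h : ∀ x ∈ s, g • x ∈ s) : g • s = s := by
  apply Finset.eq_of_subset_of_card_le
  · intro y hy
    obtain ⟨x, hx, rfl⟩ := Finset.mem_smul_finset.mp hy
    exact h x hx
  · rw [Finset.card_smul_finset]

theorem exists_notMem_smul_of_ne (g : G) (s : Finset Ω) (h : g • s ≠ s) : ∃ x ∈ s, g • x ∉ s := by
  by_contra hcon
  push Not at hcon
  exact h (smul_finset_eq_of_forall_mem g s hcon)

theorem key [Fintype Ω] (t : ℕ) (hG : ExtendsInj G (Ω := Ω) t) (K : Subgroup G) :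
    ∀ (n : ℕ) (F s : Finset Ω), s.card = n → Disjoint F s → F.card + s.card + 2 ≤ t →
      F.card + 2 * s.card < Fintype.card Ω →
      (∀ g : G, (∀ x ∈ F, g • x = x) → g • s = s → g ∈ K) →
      (∃ k ∈ K, (∀ x ∈ F, k • x = x) ∧ k • s ≠ s) →
      ∀ g : G, (∀ x ∈ F, g • x = x) → g ∈ K := by
  intro n
  induction n with
  | zero =>
    intro F s hs _ _ _ _ hk
    obtain ⟨k, _, _, hks⟩ := hk
    rw [Finset.card_eq_zero] at hs
    subst hs
    exact absurd (Finset.smul_finset_empty k) hks
  | succ n ih =>
    intro F s hs hFs ht hcard hH hk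
    obtain ⟨k, hkK, hkF, hks⟩ := hk
    have hsne : s.Nonempty := by
      rw [← Finset.card_pos]; omega
    obtain ⟨a, ha⟩ := hsne
    have haF : a ∉ F := fun h => (Finset.disjoint_left.mp hFs h) ha
    have hcardU : (F ∪ s).card = F.card + s.card := Finset.card_union_of_disjoint hFs
    -- swaps inside `s`
    have hswap : ∀ c ∈ s, ∀ d ∈ s, ∃ h ∈ K, (∀ x ∈ F, h • x = x) ∧ h • s = s ∧ h • c = d := by
      intro c hc d hd
      obtain ⟨h, hh⟩ := hG (F ∪ s) (Equiv.swap c d) (by omega) (Equiv.injective _).injOn
      have h1 : ∀ x ∈ F, h • x = x := by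
        intro x hx
        rw [hh x (Finset.mem_union_left _ hx)]
        apply Equiv.swap_apply_of_ne_of_ne
        · rintro rfl; exact (Finset.disjoint_left.mp hFs hx) hc
        · rintro rfl; exact (Finset.disjoint_left.mp hFs hx) hd
      have h2 : h • s = s := by
        apply smul_finset_eq_of_forall_mem
        intro x hx
        rw [hh x (Finset.mem_union_right _ hx)]
        by_cases hxc : x = c
        · rw [hxc, Equiv.swap_apply_left]; exact hd
        · by_cases hxd : x = d
          · rw [hxd, Equiv.swap_apply_right]; exact hc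
          · rw [Equiv.swap_apply_of_ne_of_ne hxc hxd]; exact hx
      refine ⟨h, hH h h1 h2, h1, h2, ?_⟩
      rw [hh c (Finset.mem_union_right _ hc), Equiv.swap_apply_left]
    -- an element fixing `F` pointwise maps the complement of `F` to itself
    have hnotF : ∀ g : G, (∀ x ∈ F, g • x = x) → ∀ y, y ∉ F → g • y ∉ F := by
      intro g hg y hy hgy
      have := hg _ hgy
      exact hy ((MulAction.injective g this) ▸ hgy)
    -- moving a point outside `F ∪ s`, fixing `F ∪ s` pointwise
    have hmove : ∀ y, y ∉ F ∪ s → ∀ x, x ∉ F ∪ s → ∃ h ∈ K, (∀ z ∈ F ∪ s, h • z = z) ∧ h • y = x := by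
      intro y hy x hx
      obtain ⟨h, hh⟩ := hG (insert y (F ∪ s)) (fun z => if z = y then x else z)
        (by rw [Finset.card_insert_of_notMem hy]; omega) (by
          intro u hu v hv huv
          simp only at huv
          by_cases h1 : u = y <;> by_cases h2 : v = y
          · rw [h1, h2]
          · exfalso
            rw [if_pos h1, if_neg h2] at huv
            have : v ∈ F ∪ s := by
              rcases Finset.mem_insert.mp hv with h | h
              · exact absurd h h2
              · exact h
            exact hx (huv ▸ this)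
          · exfalso
            rw [if_neg h1, if_pos h2] at huv
            have : u ∈ F ∪ s := by
              rcases Finset.mem_insert.mp hu with h | h
              · exact absurd h h1
              · exact h
            exact hx (huv ▸ this)
          · rwa [if_neg h1, if_neg h2] at huv)
      have h1 : ∀ z ∈ F ∪ s, h • z = z := by
        intro z hz
        rw [hh z (Finset.mem_insert_of_mem hz), if_neg]
        rintro rfl; exact hy hz
      refine ⟨h, hH h (fun z hz => h1 z (Finset.mem_union_left _ hz)) ?_, h1, ?_⟩
      · apply smul_finset_eq_of_forall_mem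
        intro z hz
        rw [h1 z (Finset.mem_union_right _ hz)]; exact hz
      · rw [hh y (Finset.mem_insert_self _ _), if_pos rfl]
    -- (1) transitivity of `K ∩ G_F` outside `F`
    have htrans : ∀ x, x ∉ F → ∃ l ∈ K, (∀ z ∈ F, l • z = z) ∧ l • a = x := by
      intro x hx
      by_cases hxs : x ∈ s
      · obtain ⟨h, hhK, h1, _, h3⟩ := hswap a ha x hxs
        exact ⟨h, hhK, h1, h3⟩
      · obtain ⟨b, hb, hkb⟩ := exists_notMem_smul_of_ne k s hks
        have hbF : b ∉ F := fun h => (Finset.disjoint_left.mp hFs h) hb
        have hy : k • b ∉ F ∪ s := by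
          rw [Finset.mem_union]; push Not
          exact ⟨hnotF k hkF b hbF, hkb⟩
        have hx' : x ∉ F ∪ s := by
          rw [Finset.mem_union]; push Not
          exact ⟨hx, hxs⟩
        obtain ⟨h₁, h₁K, h₁F, _, h₁a⟩ := hswap a ha b hb
        obtain ⟨h₂, h₂K, h₂F, h₂y⟩ := hmove _ hy x hx'
        refine ⟨h₂ * k * h₁, K.mul_mem (K.mul_mem h₂K hkK) h₁K, ?_, ?_⟩
        · intro z hz
          rw [mul_smul, mul_smul, h₁F z hz, hkF z hz, h₂F z (Finset.mem_union_left _ hz)]
        · rw [mul_smul, mul_smul, h₁a, h₂y]
    -- it suffices to show that the stabiliser of `insert a F` lies in `K`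
    suffices hF' : ∀ g : G, (∀ x ∈ insert a F, g • x = x) → g ∈ K by
      intro g hg
      obtain ⟨l, hlK, hlF, hla⟩ := htrans (g • a) (hnotF g hg a haF)
      have h1 : l⁻¹ * g ∈ K := by
        apply hF'
        intro x hx
        rcases Finset.mem_insert.mp hx with rfl | hx
        · rw [mul_smul, ← hla, inv_smul_smul]
        · rw [mul_smul, hg x hx, inv_smul_eq_iff, hlF x hx]
      have : g = l * (l⁻¹ * g) := by group
      rw [this]; exact K.mul_mem hlK h1
    have hs' : (s.erase a).card = n := by rw [Finset.card_erase_of_mem ha]; omega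
    have hins : insert a (s.erase a) = s := Finset.insert_erase ha
    have hsmul : ∀ g : G, g • a = a → g • s.erase a = s.erase a → g • s = s := by
      intro g hga hgs
      rw [← hins, Finset.smul_finset_insert, hga, hgs]
    have hsmul' : ∀ g : G, g • a = a → g • s = s → g • s.erase a = s.erase a := by
      intro g hga hgs
      apply smul_finset_eq_of_forall_mem
      intro x hx
      rw [Finset.mem_erase] at hx ⊢
      refine ⟨fun h => hx.1 (MulAction.injective g (h.trans hga.symm)), ?_⟩
      rw [← hgs]; exact Finset.smul_mem_smul_finset hx.2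
    have hH' : ∀ g : G, (∀ x ∈ insert a F, g • x = x) → g • s.erase a = s.erase a → g ∈ K := by
      intro g hg hgs
      exact hH g (fun x hx => hg x (Finset.mem_insert_of_mem hx))
        (hsmul g (hg a (Finset.mem_insert_self _ _)) hgs)
    by_cases hdich : ∃ k' ∈ K, (∀ x ∈ insert a F, k' • x = x) ∧ k' • s.erase a ≠ s.erase a
    · apply ih (insert a F) (s.erase a) hs'
      · rw [Finset.disjoint_insert_left]
        exact ⟨Finset.notMem_erase a s, hFs.mono_right (Finset.erase_subset a s)⟩
      · rw [Finset.card_insert_of_notMem haF]; omega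
      · rw [Finset.card_insert_of_notMem haF]; omega
      · exact hH'
      · exact hdich
    · push Not at hdich
      by_cases hn : n = 0
      · -- `s = {a}`
        intro g hg
        apply hH' g hg
        have : s.erase a = ∅ := by rw [← Finset.card_eq_zero, hs', hn]
        rw [this, Finset.smul_finset_empty]
      exfalso
      -- block argument
      have hstab : ∀ m ∈ K, (∀ x ∈ F, m • x = x) → m • a = a → m • s = s := by
        intro m hm hmF hma
        apply hsmul m hma
        apply hdich m hm
        intro x hx
        rcases Finset.mem_insert.mp hx with rfl | hx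
        · exact hma
        · exact hmF x hx
      obtain ⟨x, hx⟩ : ∃ x, x ∉ F ∪ s := by
        by_contra hcon
        push Not at hcon
        have : F ∪ s = Finset.univ := Finset.eq_univ_iff_forall.mpr hcon
        have h2 := congrArg Finset.card this
        rw [hcardU, Finset.card_univ] at h2
        omega
      have hxF : x ∉ F := fun h => hx (Finset.mem_union_left _ h)
      have hxs : x ∉ s := fun h => hx (Finset.mem_union_right _ h)
      obtain ⟨l, hlK, hlF, hla⟩ := htrans x hxF
      have hxB : x ∈ l • s := hla ▸ Finset.smul_mem_smul_finset ha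
      have hBs : Disjoint (l • s) s := by
        rw [Finset.disjoint_left]
        intro y hyB hys
        obtain ⟨c, hc, rfl⟩ := Finset.mem_smul_finset.mp hyB
        obtain ⟨h₁, h₁K, h₁F, h₁s, h₁a⟩ := hswap a ha c hc
        obtain ⟨h₂, h₂K, h₂F, h₂s, h₂y⟩ := hswap _ hys a ha
        have h3 := hstab (h₂ * l * h₁) (K.mul_mem (K.mul_mem h₂K hlK) h₁K) (by
          intro z hz
          rw [mul_smul, mul_smul, h₁F z hz, hlF z hz, h₂F z hz]) (by
          rw [mul_smul, mul_smul, h₁a, h₂y])
        rw [mul_smul, mul_smul, h₁s] at h3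
        have h4 : l • s = s := by
          have : l • s = h₂⁻¹ • s := by rw [eq_inv_smul_iff]; exact h3
          rw [this, inv_smul_eq_iff, h₂s]
        exact hxs (h4 ▸ hxB)
      have hBF : Disjoint (l • s) F := by
        rw [Finset.disjoint_left]
        intro y hyB hyF
        obtain ⟨c, hc, rfl⟩ := Finset.mem_smul_finset.mp hyB
        exact hnotF l hlF c (fun h => (Finset.disjoint_left.mp hFs h) hc) hyF
      have hBcard : (l • s).card = s.card := Finset.card_smul_finset l s
      obtain ⟨y, hyB, hyx⟩ : ∃ y ∈ l • s, y ≠ x := by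
        apply Finset.exists_mem_ne _ x
        rw [hBcard]; omega
      obtain ⟨w, hw⟩ : ∃ w, w ∉ (F ∪ s) ∪ l • s := by
        by_contra hcon
        push Not at hcon
        have : (F ∪ s) ∪ l • s = Finset.univ := Finset.eq_univ_iff_forall.mpr hcon
        have h2 := congrArg Finset.card this
        have h3 := Finset.card_union_le (F ∪ s) (l • s)
        rw [Finset.card_univ] at h2
        omega
      have hwU : w ∉ F ∪ s := fun h => hw (Finset.mem_union_left _ h)
      have hwB : w ∉ l • s := fun h => hw (Finset.mem_union_right _ h)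
      have hyU : y ∉ F ∪ s := by
        rw [Finset.mem_union]; push Not
        exact ⟨Finset.disjoint_left.mp hBF hyB, Finset.disjoint_left.mp hBs hyB⟩
      have hyU' : y ∉ insert x (F ∪ s) := by
        rw [Finset.mem_insert]; push Not
        exact ⟨hyx, hyU⟩
      have hwU' : w ∉ insert x (F ∪ s) := by
        rw [Finset.mem_insert]; push Not
        exact ⟨fun h => hwB (h ▸ hxB), hwU⟩
      obtain ⟨g, hg⟩ := hG (insert y (insert x (F ∪ s))) (fun z => if z = y then w else z)
        (by rw [Finset.card_insert_of_notMem hyU', Finset.card_insert_of_notMem hx]; omega) (by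
          intro u hu v hv huv
          simp only at huv
          by_cases h1 : u = y <;> by_cases h2 : v = y
          · rw [h1, h2]
          · exfalso
            rw [if_pos h1, if_neg h2] at huv
            have : v ∈ insert x (F ∪ s) := by
              rcases Finset.mem_insert.mp hv with h | h
              · exact absurd h h2
              · exact h
            exact hwU' (huv ▸ this)
          · exfalso
            rw [if_neg h1, if_pos h2] at huv
            have : u ∈ insert x (F ∪ s) := by
              rcases Finset.mem_insert.mp hu with h | h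
              · exact absurd h h1
              · exact h
            exact hwU' (huv ▸ this)
          · rwa [if_neg h1, if_neg h2] at huv)
      have hg1 : ∀ z ∈ insert x (F ∪ s), g • z = z := by
        intro z hz
        rw [hg z (Finset.mem_insert_of_mem hz), if_neg]
        rintro rfl; exact hyU' hz
      have hgy : g • y = w := by rw [hg y (Finset.mem_insert_self _ _), if_pos rfl]
      have hgF : ∀ z ∈ F, g • z = z := fun z hz =>
        hg1 z (Finset.mem_insert_of_mem (Finset.mem_union_left _ hz))
      have hgK : g ∈ K := by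
        apply hH g hgF
        apply smul_finset_eq_of_forall_mem
        intro z hz
        rw [hg1 z (Finset.mem_insert_of_mem (Finset.mem_union_right _ hz))]; exact hz
      have h3 := hstab (l⁻¹ * g * l) (K.mul_mem (K.mul_mem (K.inv_mem hlK) hgK) hlK) (by
        intro z hz
        rw [mul_smul, mul_smul, hlF z hz, hgF z hz, inv_smul_eq_iff, hlF z hz]) (by
        rw [mul_smul, mul_smul, hla, hg1 x (Finset.mem_insert_self _ _), inv_smul_eq_iff, hla])
      rw [mul_smul, mul_smul, inv_smul_eq_iff] at h3
      apply hwB
      rw [← h3, ← hgy]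
      exact Finset.smul_mem_smul_finset hyB

/-- If `G` is `(k+2)`-transitive on `Ω` and `2 k < |Ω|`, the stabiliser of a `k`-subset, `k ≥ 1`, is
a maximal subgroup. -/
theorem isCoatom_stabilizer_finset [Fintype Ω] (t : ℕ) (hG : ExtendsInj G (Ω := Ω) t)
    (s : Finset Ω) (hs0 : s.Nonempty) (ht : s.card + 2 ≤ t) (hcard : 2 * s.card < Fintype.card Ω) :
    IsCoatom (stabilizer G s) := by
  constructor
  · -- proper
    intro htop
    obtain ⟨a, ha⟩ := hs0
    obtain ⟨x, hx⟩ : ∃ x, x ∉ s := by
      by_contra hcon
      push Not at hcon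
      have : s = Finset.univ := Finset.eq_univ_iff_forall.mpr hcon
      have h2 := congrArg Finset.card this
      rw [Finset.card_univ] at h2
      omega
    obtain ⟨g, hg⟩ := hG {a} (fun _ => x) (by simp; omega) (by simp)
    have h1 : g ∈ stabilizer G s := htop ▸ Subgroup.mem_top g
    rw [mem_stabilizer_iff] at h1
    apply hx
    rw [← h1, ← hg a (Finset.mem_singleton_self a)]
    exact Finset.smul_mem_smul_finset ha
  · intro K hK
    obtain ⟨k, hkK, hk⟩ := SetLike.exists_of_lt hK
    rw [eq_top_iff]
    intro g _
    exact key t hG K s.card ∅ s rfl (Finset.disjoint_empty_left s) (by simpa using ht)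
      (by simpa using hcard) (fun g _ hg => hK.le (mem_stabilizer_iff.mpr hg))
      ⟨k, hkK, by simp, fun h => hk (mem_stabilizer_iff.mpr h)⟩ g (by simp)

end Cfsg.Agent.Lib.Helper30
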