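import Cfsg.Agent.Lib.Helper27.Trans
import Cfsg.Agent.Lib.Helper30.SetStabMax

/-!
# The pointwise stabiliser of five points in `M24`

It is transitive on the three remaining points of the octad through the five points and on the
sixteen points outside that octad.
-/

set_option autoImplicit false

namespace Cfsg.Agent.Lib.Helper30

open Cfsg Cfsg.Agent.Lib.Helper27
open scoped Pointwise

theorem perm_inv_apply_self {α : Type*} (f : Equiv.Perm α) (x : α) : f⁻¹ (f x) = x :=
  Equiv.Perm.inv_eq_iff_eq.mpr rfl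

/-- every 5-set can be moved onto the five base points. -/
theorem five_to_std {A : Finset GolayPt} (hA : A.card = 5) :
    ∃ g ∈ M24, g • A = unmask 8388623 := by
  let e : Fin 5 ≃ A := (Finset.equivFinOfCardEq hA).symm
  let x : Fin 5 ↪ GolayPt := ⟨fun i => (e i : GolayPt), fun i j h => e.injective (Subtype.ext h)⟩
  obtain ⟨g, hg, h⟩ := std5' x
  refine ⟨g, hg, ?_⟩
  apply Finset.eq_of_subset_of_card_le
  · intro q hq
    obtain ⟨p, hp, rfl⟩ := Finset.mem_smul_finset.mp hq
    have h1 := h (e.symm ⟨p, hp⟩)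
    have h2 : x (e.symm ⟨p, hp⟩) = p := by
      change ((e (e.symm ⟨p, hp⟩) : A) : GolayPt) = p
      rw [Equiv.apply_symm_apply]
    rw [h2] at h1
    change g p ∈ _
    rw [h1]
    have : ∀ i : Fin 5, stdTuple i ∈ unmask 8388623 := by decide +kernel
    exact this _
  · rw [Finset.card_smul_finset, hA, card_unmask]; decide +kernel

theorem fixer_L5_fix {k : Equiv.Perm GolayPt} (hk : k ∈ fixer L5) :
    ∀ p ∈ unmask 8388623, k p = p := by
  have hp : ∀ p : GolayPt, p ∈ unmask 8388623 →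
      p = pt 23 ∨ p = pt 0 ∨ p = pt 1 ∨ p = pt 2 ∨ p = pt 3 := by decide +kernel
  intro p hpF
  rcases hp p hpF with rfl | rfl | rfl | rfl | rfl
  · exact fixer_fix hk (by norm_num) (by simp [L5])
  · exact fixer_fix hk (by norm_num) (by simp [L5])
  · exact fixer_fix hk (by norm_num) (by simp [L5])
  · exact fixer_fix hk (by norm_num) (by simp [L5])
  · exact fixer_fix hk (by norm_num) (by simp [L5])

theorem stdOctad_mem : unmask stdOctad ∈ octads :=
  unmask_mem_octads (by decide +kernel) (by decide +kernel)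

/-- The pointwise stabiliser of a 5-set `A` is transitive on the rest of the octad through `A` and on
the complement of this octad. -/
theorem exists_fix_five {A o : Finset GolayPt} (hA : A.card = 5) (ho : o ∈ octads) (hAo : A ⊆ o)
    {y y' : GolayPt} (hy : y ∉ A) (hy' : y' ∉ A) (h : y ∈ o ↔ y' ∈ o) :
    ∃ k ∈ M24, (∀ x ∈ A, k x = x) ∧ k y = y' := by
  obtain ⟨g, hg, hgA⟩ := five_to_std hA
  have hgo : g • o = unmask stdOctad := by
    apply octads_eq_of_inter (smul_mem_octads hg ho) stdOctad_mem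
    have hsub : unmask 8388623 ⊆ g • o ∩ unmask stdOctad := by
      apply Finset.subset_inter
      · rw [← hgA]; exact Finset.smul_finset_subset_smul_finset hAo
      · rw [subset_iff_mask, mask_unmask (by norm_num), mask_unmask (by decide +kernel)]
        decide +kernel
    calc 5 = (unmask 8388623).card := by rw [card_unmask]; decide +kernel
      _ ≤ _ := Finset.card_le_card hsub
  have hmem : ∀ z : GolayPt, g z ∈ unmask stdOctad ↔ z ∈ o := by
    intro z
    rw [← hgo]
    exact Finset.smul_mem_smul_finset_iff g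
  have hmemA : ∀ z : GolayPt, g z ∈ unmask 8388623 ↔ z ∈ A := by
    intro z
    rw [← hgA]
    exact Finset.smul_mem_smul_finset_iff g
  have hcase : ∀ q : GolayPt, q ∉ unmask 8388623 →
      (q ∈ unmask stdOctad → q ∈ unmask 147488) ∧ (q ∉ unmask stdOctad → q ∈ unmask 8241104) := by
    decide +kernel
  have hq : g y ∉ unmask 8388623 := fun hc => hy ((hmemA y).mp hc)
  have hq' : g y' ∉ unmask 8388623 := fun hc => hy' ((hmemA y').mp hc)
  obtain ⟨k₀, hk₀, hk₀y⟩ : ∃ k₀ ∈ fixer L5, k₀ (g y) = g y' := by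
    by_cases hyo : y ∈ o
    · obtain ⟨a, ha, ha'⟩ := trans6 _ ((hcase _ hq).1 ((hmem y).mpr hyo))
      obtain ⟨b, hb, hb'⟩ := trans6 _ ((hcase _ hq').1 ((hmem y').mpr (h.mp hyo)))
      refine ⟨b * a⁻¹, (fixer L5).mul_mem (fixer_cons_le L5 _ hb)
        ((fixer L5).inv_mem (fixer_cons_le L5 _ ha)), ?_⟩
      rw [Equiv.Perm.mul_apply, ← ha', perm_inv_apply_self, hb']
    · obtain ⟨a, ha, ha'⟩ := trans5 _ ((hcase _ hq).2 (fun hc => hyo ((hmem y).mp hc)))
      obtain ⟨b, hb, hb'⟩ := trans5 _ ((hcase _ hq').2 (fun hc => hyo (h.mpr ((hmem y').mp hc))))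
      refine ⟨b * a⁻¹, (fixer L5).mul_mem hb ((fixer L5).inv_mem ha), ?_⟩
      rw [Equiv.Perm.mul_apply, ← ha', perm_inv_apply_self, hb']
  refine ⟨g⁻¹ * k₀ * g, M24.mul_mem (M24.mul_mem (M24.inv_mem hg) hk₀.1) hg, ?_, ?_⟩
  · intro x hx
    rw [Equiv.Perm.mul_apply, Equiv.Perm.mul_apply, fixer_L5_fix hk₀ _ ((hmemA x).mpr hx),
      perm_inv_apply_self]
  · rw [Equiv.Perm.mul_apply, Equiv.Perm.mul_apply, hk₀y, perm_inv_apply_self]

/-- `M24` in the convenient form of 5-transitivity. -/
theorem extendsInj_M24 : ExtendsInj (↥M24) (Ω := GolayPt) 5 := by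
  have := isMultiplyPretransitive_M24
  apply extendsInj_of_isMultiplyPretransitive (G := ↥M24) (Ω := GolayPt) 5
  rw [Nat.card_eq_fintype_card]
  decide

theorem exists_M24_of_injOn (A : Finset GolayPt) (f : GolayPt → GolayPt) (hA : A.card ≤ 5)
    (hf : Set.InjOn f A) : ∃ g ∈ M24, ∀ x ∈ A, g x = f x := by
  obtain ⟨g, hg⟩ := extendsInj_M24 A f hA hf
  exact ⟨g.1, g.2, hg⟩

end Cfsg.Agent.Lib.Helper30
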