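import Cfsg.Agent.S0381
import Cfsg.Agent.S0360
import Cfsg.Agent.Lib.Helper27.Flag
import Cfsg.Agent.Lib.Helper30.M24Six

/-!
# The stabiliser of an octad in `M24`: restriction to the octad
-/

set_option autoImplicit false

namespace Cfsg.Agent.Lib.Helper30

open Cfsg Cfsg.Agent.Lib.Helper27
open scoped Pointwise

/-- the setwise stabiliser of `o` in `M24`. -/
abbrev octStab (o : Finset GolayPt) : Subgroup (Equiv.Perm GolayPt) :=
  M24 ⊓ MulAction.stabilizer (Equiv.Perm GolayPt) o

/-- the pointwise stabiliser of `o` in `M24`. -/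
abbrev octFix (o : Finset GolayPt) : Subgroup (Equiv.Perm GolayPt) :=
  M24 ⊓ fixingSubgroup (Equiv.Perm GolayPt) (o : Set GolayPt)

theorem mem_iff_of_smul_eq {g : Equiv.Perm GolayPt} {o : Finset GolayPt} (h : g • o = o)
    (x : GolayPt) : g x ∈ o ↔ x ∈ o := by
  conv_lhs => rw [← h]
  exact Finset.smul_mem_smul_finset_iff g

theorem smul_eq_of_mem_iff {g : Equiv.Perm GolayPt} {o : Finset GolayPt}
    (h : ∀ x, g x ∈ o ↔ x ∈ o) : g • o = o :=
  smul_finset_eq_of_forall_mem g o (fun x hx => (h x).mpr hx)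

theorem card_octStab {o : Finset GolayPt} (ho : o ∈ octads) : Nat.card (octStab o) = 322560 := by
  have h := card_step (G := Equiv.Perm GolayPt) M24 o octads
    (fun y hy => octads_transitive ho hy) (fun g hg => smul_mem_octads hg ho)
  rw [card_M24, Cfsg.Agent.S0360.result] at h
  change 244823040 = 759 * Nat.card (octStab o) at h
  omega

/-- restriction of the octad stabiliser to the octad. -/
def octRes (o : Finset GolayPt) : ↥(octStab o) →* Equiv.Perm ↥o where
  toFun g := Equiv.Perm.subtypePerm g.1 (mem_iff_of_smul_eq g.2.2)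
  map_one' := by apply Equiv.ext; intro x; rfl
  map_mul' a b := by apply Equiv.ext; intro x; rfl

theorem octRes_apply (o : Finset GolayPt) (g : ↥(octStab o)) (x : ↥o) :
    ((octRes o g x : ↥o) : GolayPt) = g.1 x := rfl

theorem mem_octFix_iff {o : Finset GolayPt} {g : Equiv.Perm GolayPt} :
    g ∈ octFix o ↔ g ∈ M24 ∧ ∀ x ∈ o, g x = x := by
  rw [Subgroup.mem_inf, mem_fixingSubgroup_iff]
  rfl

theorem octFix_le_octStab (o : Finset GolayPt) : octFix o ≤ octStab o := by
  intro g hg
  rw [mem_octFix_iff] at hg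
  exact ⟨hg.1, smul_eq_of_fixes hg.2⟩

theorem mem_ker_octRes {o : Finset GolayPt} (g : ↥(octStab o)) :
    g ∈ (octRes o).ker ↔ g.1 ∈ octFix o := by
  rw [MonoidHom.mem_ker, mem_octFix_iff]
  constructor
  · intro h
    refine ⟨g.2.1, fun x hx => ?_⟩
    have := congrArg (fun e : Equiv.Perm ↥o => ((e ⟨x, hx⟩ : ↥o) : GolayPt)) h
    exact this
  · intro h
    apply Equiv.ext
    intro x
    apply Subtype.ext
    exact h.2 x x.2

theorem card_ker_octRes {o : Finset GolayPt} (ho : o ∈ octads) :
    Nat.card (octRes o).ker = 16 := by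
  rw [← (Cfsg.Agent.S0381.result o ho).1]
  apply Nat.card_congr
  exact ⟨fun g => ⟨g.1.1, (mem_ker_octRes g.1).mp g.2⟩,
    fun g => ⟨⟨g.1, octFix_le_octStab o g.2⟩, (mem_ker_octRes _).mpr g.2⟩,
    fun g => rfl, fun g => rfl⟩

theorem card_perm_octad {o : Finset GolayPt} (ho : o ∈ octads) :
    Nat.card (Equiv.Perm ↥o) = 40320 := by
  rw [Nat.card_eq_fintype_card, Fintype.card_perm, Fintype.card_coe, ho.2]
  rfl

theorem eq_alternatingGroup_of_card {o : Finset GolayPt} (ho : o ∈ octads)
    (R : Subgroup (Equiv.Perm ↥o)) (hR : Nat.card R = 20160) : R = alternatingGroup ↥o := by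
  apply Equiv.Perm.eq_alternatingGroup_of_index_eq_two
  have := R.card_mul_index
  rw [hR, card_perm_octad ho] at this
  omega

theorem card_range_octRes {o : Finset GolayPt} (ho : o ∈ octads) :
    Nat.card (octRes o).range = 20160 := by
  have h1 := (octRes o).ker.card_mul_index
  rw [Subgroup.index_ker, card_ker_octRes ho, card_octStab ho] at h1
  omega

/-- The octad stabiliser induces the alternating group on the octad. -/
theorem range_octRes {o : Finset GolayPt} (ho : o ∈ octads) :
    (octRes o).range = alternatingGroup ↥o :=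
  eq_alternatingGroup_of_card ho _ (card_range_octRes ho)

end Cfsg.Agent.Lib.Helper30
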